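/-
Kernel of the stalk map of an immersion; regular immersions give regular sequences at stalks.
-/
import Groth.Agent.DivPts.SectionFibre
import Groth.Agent.LCIMor.Immersion
import Groth.Prelude.Def_RegImm
import Mathlib.RingTheory.Regular.RegularSequence
import Mathlib.RingTheory.Regular.Flat

set_option autoImplicit false
universe u
open CategoryTheory AlgebraicGeometry

namespace Groth.Agent.RegImmStalk

theorem ker_stalkMap_eq_map {X V : Scheme.{u}} (j : X ⟶ V) (U : V.affineOpens) (hp : IsAffineOpen (j ⁻¹ᵁ U.1))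
    (hs : Function.Surjective (j.app U.1).hom) (x : X) (hx : j x ∈ U.1) :
    RingHom.ker (j.stalkMap x).hom = (RingHom.ker (j.app U.1).hom).map (V.presheaf.germ U.1 (j x) hx).hom := by
  refine le_antisymm (fun a ha => ?_) ?_
  · obtain ⟨g, r, hg, hr⟩ := AssPts.exists_ringGerm_mul_eq U.2 (j x) hx a
    rw [RingHom.mem_ker] at ha
    have h0 : (X.presheaf.germ (j ⁻¹ᵁ U.1) x hx).hom ((j.app U.1).hom r) = 0 := by
      rw [← j.germ_stalkMap_apply U.1 x hx r]
      have := congrArg (j.stalkMap x).hom hr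
      rw [map_mul, ha, zero_mul] at this
      exact this.symm
    letI := (X.presheaf.germ (j ⁻¹ᵁ U.1) x hx).hom.toAlgebra
    have : IsLocalization.AtPrime (X.presheaf.stalk x) (hp.primeIdealOf ⟨x, hx⟩).asIdeal :=
      hp.isLocalization_stalk ⟨x, hx⟩
    obtain ⟨⟨h, hh⟩, hhr⟩ := (IsLocalization.map_eq_zero_iff
      (hp.primeIdealOf ⟨x, hx⟩).asIdeal.primeCompl (X.presheaf.stalk x) _).1 h0
    obtain ⟨h', rfl⟩ := hs h
    have hk : h' * r ∈ RingHom.ker (j.app U.1).hom := by
      rw [RingHom.mem_ker, map_mul]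
      exact hhr
    have hh'u : IsUnit ((V.presheaf.germ U.1 (j x) hx).hom h') := by
      have hu : IsUnit ((X.presheaf.germ (j ⁻¹ᵁ U.1) x hx).hom ((j.app U.1).hom h')) :=
        IsLocalization.map_units (X.presheaf.stalk x) ⟨_, hh⟩
      rw [← j.germ_stalkMap_apply U.1 x hx h'] at hu
      exact (isUnit_map_iff (j.stalkMap x).hom _).1 hu
    have hgu := (AssPts.notMem_prime_iff U.2 (j x) hx g).1 hg
    refine (Ideal.mul_unit_mem_iff_mem _ (hh'u.mul hgu)).1 ?_
    rw [mul_left_comm, hr, ← map_mul]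
    exact Ideal.mem_map_of_mem _ hk
  · rw [Ideal.map_le_iff_le_comap]
    intro r hr
    rw [RingHom.mem_ker] at hr
    rw [Ideal.mem_comap, RingHom.mem_ker, j.germ_stalkMap_apply]
    exact (congrArg _ hr).trans (map_zero _)

theorem exists_isRegular {Z X : Scheme.{u}} (i : Z ⟶ X)
    (h : RegImm.IsRegularImmersion RegImm.Kind.regular i) (z : Z) :
    ∃ rs : List (X.presheaf.stalk (i z)),
      RingTheory.Sequence.IsRegular (X.presheaf.stalk (i z)) rs ∧
        RingHom.ker (i.stalkMap z).hom = Ideal.ofList rs := by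
  obtain ⟨U, hzU, hc, rs, hrs, hker⟩ := h.2 z
  have : IsAffine U.1.toScheme := U.2
  have hp : IsAffineOpen (i ⁻¹ᵁ U.1) := isAffine_of_isAffineHom (i ∣_ U.1)
  letI := TopCat.Presheaf.algebra_section_stalk X.presheaf (U := U.1) ⟨i z, hzU⟩
  have := U.2.isLocalization_stalk ⟨i z, hzU⟩
  have : Module.Flat Γ(X, U.1) (X.presheaf.stalk (i z)) :=
    IsLocalization.flat _ (U.2.primeIdealOf ⟨i z, hzU⟩).asIdeal.primeCompl
  have hk := ker_stalkMap_eq_map i U hp (LCIMor.app_surjective_of_restrict i U.2).1 z hzU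
  rw [hker] at hk
  have hw := RingTheory.Sequence.IsWeaklyRegular.of_flat (S := X.presheaf.stalk (i z)) hrs.toIsWeaklyRegular
  refine ⟨rs.map (algebraMap Γ(X, U.1) (X.presheaf.stalk (i z))), ⟨hw, ?_⟩, ?_⟩
  · rw [← Ideal.map_ofList, smul_eq_mul, Ideal.mul_top]
    intro htop
    refine RingHom.ker_ne_top (i.stalkMap z).hom ?_
    rw [hk]; exact htop.symm
  · rw [hk, ← Ideal.map_ofList]; rfl

end Groth.Agent.RegImmStalk
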